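import Groth.Agent.CohTwo.CI.Regular
import Groth.Agent.PicAux.EffCartierSection

/-!
# The hypersurface step of a complete intersection is an effective Cartier divisor
-/

set_option autoImplicit false
set_option linter.style.haveILetI false
set_option backward.isDefEq.respectTransparency false

universe u

open CategoryTheory AlgebraicGeometry TopologicalSpace RingTheory.Sequence
open Groth.Variety2

namespace Groth.CohTwo.CI

variable {k : Type u} [Field k] {n r : ℕ} {a : Fin (r + 1) → ℕ}
  {G : ∀ j : Fin (r + 1), LefPen.Form n k (a j)}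

local notation "Pt" => ProjectiveSpectrum (CohB1.polyGrading n k)

/-- The intersection of all but the last hypersurface. -/
noncomputable abbrev prevIdeal (G : ∀ j : Fin (r + 1), LefPen.Form n k (a j)) :
    (CohB1.ProjSpace n k).IdealSheafData :=
  LefPen.ciIdeal (fun j : Fin r => G j.castSucc)

/-- The last hypersurface inside the intersection of the others. -/
noncomputable abbrev stepIdeal (G : ∀ j : Fin (r + 1), LefPen.Form n k (a j)) :
    (prevIdeal G).subscheme.IdealSheafData :=
  (LefPen.hypIdeal (G (Fin.last r))).comap (prevIdeal G).subschemeι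

theorem nzd_germ (hG : Good G) (y : (prevIdeal G).subscheme) (i : Fin (n + 1))
    (hi : (prevIdeal G).subschemeι y ∈ LefPen.chart n k i) :
    (prevIdeal G).subschemeι.stalkMap y
        ((CohB1.ProjSpace n k).presheaf.germ (LefPen.chart n k i) _ hi
          (LefPen.dehom (G (Fin.last r)) i)) ∈
      nonZeroDivisors ((prevIdeal G).subscheme.presheaf.stalk y) := by
  let ι := (prevIdeal G).subschemeι
  let g : Fin (r + 1) → (CohB1.ProjSpace n k).presheaf.stalk (ι y) := fun j =>
    (CohB1.ProjSpace n k).presheaf.germ (LefPen.chart n k i) (ι y) hi (LefPen.dehom (G j) i)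
  by_cases hlast : (G (Fin.last r)).1 ∈ (ι y : Pt).asHomogeneousIdeal
  · have hmem : (ι y) ∈ (prevIdeal G).support := by
      rw [← SetLike.mem_coe, ← Scheme.IdealSheafData.range_subschemeι]
      exact ⟨y, rfl⟩
    have hw := isWeaklyRegular_germs G hG (ι y)
      (Fin.lastCases hlast ((mem_support_ciIdeal (fun j : Fin r => G j.castSucc) _).1 hmem)) i hi
    rw [List.ofFn_succ', List.concat_eq_append, isWeaklyRegular_append_iff,
      isWeaklyRegular_singleton_iff, ← stalkIdeal_ciIdeal (fun j : Fin r => G j.castSucc),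
      smul_eq_mul, Ideal.mul_top] at hw
    have hreg : ∀ b, g (Fin.last r) * b ∈ IntMult.stalkIdeal (prevIdeal G) (ι y) →
        b ∈ IntMult.stalkIdeal (prevIdeal G) (ι y) := fun b hb => by
      refine (Submodule.Quotient.mk_eq_zero _).1 (hw.2 ?_)
      dsimp only
      rw [← Submodule.Quotient.mk_smul, smul_zero]
      exact (Submodule.Quotient.mk_eq_zero _).2 hb
    have hker : RingHom.ker (ι.stalkMap y).hom = IntMult.stalkIdeal (prevIdeal G) (ι y) := by
      rw [Groth.Calg6.ClosedImmStalk.ker_stalkMap_eq, Scheme.IdealSheafData.ker_subschemeι]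
    rw [mem_nonZeroDivisors_iff_right]
    intro c hc
    obtain ⟨b, rfl⟩ := ι.stalkMap_surjective y c
    rw [← map_mul, mul_comm, ← RingHom.mem_ker, hker] at hc
    rw [← RingHom.mem_ker, hker]
    exact hreg b hc
  · exact (((isUnit_germ_dehom_iff (G (Fin.last r)) i (ι y) hi).2 hlast).map
      (ι.stalkMap y).hom).mem_nonZeroDivisors

theorem isEffCartierIdeal_stepIdeal (hG : Good G) :
    BlowUp.IsEffCartierIdeal (stepIdeal G) := by
  intro y
  let ι := (prevIdeal G).subschemeι
  obtain ⟨i, hi⟩ := exists_chart (ι y)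
  obtain ⟨V, hyV, hVU⟩ := Divisors.exists_affine_le y (ι ⁻¹ᵁ LefPen.chart n k i) hi
  refine ⟨V, hyV, ι.appLE (LefPen.chart n k i) V.1 hVU (LefPen.dehom (G (Fin.last r)) i), ?_, ?_⟩
  · refine Divisors.IsNzdSec.mem_nonZeroDivisors fun z hz => ?_
    have h := nzd_germ hG z i (hVU hz)
    rw [Scheme.Hom.germ_stalkMap_apply] at h
    rw [Scheme.Hom.appLE, CommRingCat.comp_apply, TopCat.Presheaf.germ_res_apply]
    exact h
  · rw [stepIdeal, Divisors.ideal_comap_affine _ ι (chartAff i) V hVU, hypIdeal_ideal_chart,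
      Ideal.map_span, Set.image_singleton]

theorem nonempty_idealMod_stepIdeal (hG : Good G) (h0 : G (Fin.last r) ≠ 0) :
    Nonempty (ClSub.idealMod (stepIdeal G) ≅
      (Scheme.Modules.pullback (prevIdeal G).subschemeι).obj
        (Twist.twistProjSpace n k (-(a (Fin.last r) : ℤ)))) := by
  obtain ⟨e1⟩ := Groth.PlaneCurve.nonempty_idealMod_hypIdeal h0
  obtain ⟨e2⟩ := Groth.PicAux.pullback_idealMod (prevIdeal G).subschemeι
    (Groth.PlaneCurve.isEffCartierIdeal_hypIdeal h0) (isEffCartierIdeal_stepIdeal hG)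
  exact ⟨e2.symm ≪≫ (Scheme.Modules.pullback _).mapIso e1⟩

end Groth.CohTwo.CI
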