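import Groth.Agent.PicAux.Powers
import Groth.Agent.QCohMod.ClosedImm
import Groth.Agent.QCohMod.PullbackQCoh
import Groth.Agent.CohBase.AffinePush
import Groth.Agent.EulerDeg.Basic
import Groth.Agent.VBCurves.Split
import Groth.Agent.PicAux.EffCartierLine
import Groth.Agent.PnCoh.ProjectionFormula
import Groth.Agent.PnCoh.VanishingClosed

/-!
# Vanishing and surjectivity of restriction along closed immersions
-/

set_option autoImplicit false
set_option linter.style.haveILetI false
set_option backward.isDefEq.respectTransparency.types false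

universe u

open CategoryTheory CategoryTheory.Limits AlgebraicGeometry TopologicalSpace
open Groth.PicAux

namespace Groth.CohTwo.CI

variable {X Y Z : Scheme.{u}}

/-- Restriction of global sections along `f` is surjective. -/
def SurjSec (f : X ⟶ Y) (L : Y.Modules) : Prop :=
  Function.Surjective fun s : Γ(L, ⊤) => pullSec f L s

theorem subsingleton_of_iso {M N : X.Modules} (e : M ≅ N) {p : ℕ}
    (h : Subsingleton (Coh.HH X M p)) : Subsingleton (Coh.HH X N p) :=
  @Equiv.subsingleton _ _
    (((Sheaf.functorH _ p).mapIso ((SheafOfModules.toSheaf.{u} X.ringCatSheaf).mapIso e.symm)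
      ).addCommGroupIsoToAddEquiv).toEquiv h

theorem isIso_unit_of_isIso (e : X ⟶ Y) [IsIso e] (M : Y.Modules) [M.IsQuasicoherent] :
    IsIso ((Scheme.Modules.pullbackPushforwardAdjunction e).unit.app M) := by
  rw [Groth.QCohMod.isIso_unit_closedImmersion_iff]
  intro U a ha s
  rw [Scheme.Hom.ker_apply, RingHom.mem_ker] at ha
  have : a = 0 :=
    (ConcreteCategory.bijective_of_isIso (e.app U.1)).1 (ha.trans (map_zero _).symm)
  rw [this, zero_smul]

theorem subsingleton_pullback_of_isIso (e : X ⟶ Y) [IsIso e] (M : Y.Modules) [M.IsQuasicoherent]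
    {p : ℕ} (h : Subsingleton (Coh.HH Y M p)) :
    Subsingleton (Coh.HH X ((Scheme.Modules.pullback e).obj M) p) := by
  have := isIso_unit_of_isIso e M
  have h1 := subsingleton_of_iso
    (asIso ((Scheme.Modules.pullbackPushforwardAdjunction e).unit.app M)) h
  haveI : ((Scheme.Modules.pullback e).obj M).IsQuasicoherent :=
    Groth.QCohMod.isQCoh_pullback_obj _ _
  obtain ⟨e'⟩ := Groth.CohBase.nonempty_equiv_H_push e ((Scheme.Modules.pullback e).obj M) p
  exact @Equiv.subsingleton _ _ e'.symm.toEquiv h1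

theorem surjSec_of_isIso (e : X ⟶ Y) [IsIso e] (M : Y.Modules) [M.IsQuasicoherent] :
    SurjSec e M :=
  have := isIso_unit_of_isIso e M
  (ConcreteCategory.bijective_of_isIso
    (((Scheme.Modules.pullbackPushforwardAdjunction e).unit.app M).app ⊤)).2

theorem SurjSec.comp {f : X ⟶ Y} {g : Y ⟶ Z} {L : Z.Modules}
    (hf : SurjSec f ((Scheme.Modules.pullback g).obj L)) (hg : SurjSec g L) :
    SurjSec (f ≫ g) L := by
  intro t
  obtain ⟨t', ht'⟩ := (ConcreteCategory.bijective_of_isIso
    (((Scheme.Modules.pullbackComp f g).hom.app L).app (f ⁻¹ᵁ g ⁻¹ᵁ ⊤))).2 t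
  obtain ⟨m, hm⟩ := hf t'
  obtain ⟨s, rfl⟩ := hg m
  refine ⟨s, ?_⟩
  dsimp only at hm ⊢
  exact (pullSec_comp f g L s).symm.trans ((congrArg _ hm).trans ht')

variable (k : Type u) [Field k] [Y.Over (Spec (CommRingCat.of k))] (J : Y.IdealSheafData)
  {M : Y.Modules}

/-- The quotient term of the twisted ideal sequence. -/
theorem exists_quot_iso (hM : PicF.IsInvertible M) :
    ∃ Φ : CohB1.tensorMod (ClSub.quotMod J) M ≅
        (Scheme.Modules.pushforward J.subschemeι).obj ((Scheme.Modules.pullback J.subschemeι).obj M),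
      ∀ (W : Y.Opens) (b : Γ(M, W)),
        Φ.hom.app W (tmulSec ((ClSub.toSubscheme J).app W (oneSec Y W)) b) =
          (pullSec J.subschemeι M b : Γ((Scheme.Modules.pullback J.subschemeι).obj M, _)) := by
  obtain ⟨π, hπ⟩ := Groth.PnCoh.exists_projectionFormula J.subschemeι
    (Coh.structureModule J.subscheme) hM
  obtain ⟨l, hl⟩ := exists_leftUnitor ((Scheme.Modules.pullback J.subschemeι).obj M)
  refine ⟨π ≪≫ (Scheme.Modules.pushforward _).mapIso l, fun W b => ?_⟩
  change l.hom.app (J.subschemeι ⁻¹ᵁ W)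
    (π.hom.app W (tmulSec ((ClSub.toSubscheme J).app W (oneSec Y W)) b)) = _
  rw [hπ]
  refine (hl _ _ _).trans ?_
  have h1 : (ClSub.toSubscheme J).app W (oneSec Y W) =
      oneSec J.subscheme (J.subschemeι ⁻¹ᵁ W) := map_one (J.subschemeι.app W).hom
  rw [h1]
  exact one_smul _ _

include k in
theorem surjSec_subschemeι (hM : PicF.IsInvertible M)
    (h : Subsingleton (Coh.HH Y (CohB1.tensorMod (ClSub.idealMod J) M) 1)) :
    SurjSec J.subschemeι M := by
  intro t
  obtain ⟨Φ, hΦ⟩ := exists_quot_iso J hM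
  obtain ⟨l, hl⟩ := exists_leftUnitor M
  obtain ⟨u, hu⟩ := (ConcreteCategory.bijective_of_isIso (Φ.hom.app ⊤)).2 t
  obtain ⟨x, hx⟩ := Groth.VBCurves.surjective_app_top k (shortExact_idealMod_twist J hM) h u
  have hx' : x = tmulSec (oneSec Y ⊤) (l.hom.app ⊤ x) := by
    refine (ConcreteCategory.bijective_of_isIso (l.hom.app ⊤)).1 ?_
    rw [hl]
    exact (one_smul _ _).symm
  refine ⟨l.hom.app ⊤ x, ?_⟩
  dsimp only
  rw [← hu, ← hx, ← hΦ]
  refine congrArg (Φ.hom.app ⊤) ?_
  conv_rhs => rw [hx']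
  exact (tensorRightMod_map_tmulSec M (ClSub.toSubscheme J) ⊤ (oneSec Y ⊤) _).symm

include k in
theorem subsingleton_step (hM : PicF.IsInvertible M) {p : ℕ}
    (h2 : Subsingleton (Coh.HH Y M p))
    (h1 : Subsingleton (Coh.HH Y (CohB1.tensorMod (ClSub.idealMod J) M) (p + 1))) :
    Subsingleton
      (Coh.HH J.subscheme ((Scheme.Modules.pullback J.subschemeι).obj M) p) := by
  obtain ⟨Φ, -⟩ := exists_quot_iso J hM
  obtain ⟨l, -⟩ := exists_leftUnitor M
  have hS := shortExact_idealMod_twist J hM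
  have h3 : Subsingleton (Coh.HH Y (CohB1.tensorMod (ClSub.quotMod J) M) p) :=
    subsingleton_of_forall_eq 0 fun y => by
      obtain ⟨z, rfl⟩ := (Groth.EulerDeg.exact_right k hS p y).1 (@Subsingleton.elim _ h1 _ _)
      rw [@Subsingleton.elim _ (subsingleton_of_iso l.symm h2) z 0]
      exact map_zero _
  haveI : ((Scheme.Modules.pullback J.subschemeι).obj M).IsQuasicoherent :=
    isQCoh_of_isInvertible (isInvertible_pullback _ hM)
  obtain ⟨e⟩ := Groth.CohBase.nonempty_equiv_H_push J.subschemeι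
    ((Scheme.Modules.pullback J.subschemeι).obj M) p
  exact @Equiv.subsingleton _ _ e.symm.toEquiv (subsingleton_of_iso Φ h3)

end Groth.CohTwo.CI
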