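import Groth.Agent.CohTwo.CI.Cartier
import Groth.Agent.CohTwo.CI.Transport
import Groth.Agent.PnCoh.Cohomology
import Groth.Agent.PicAux.PullTensor
import Groth.Agent.Variety2.ProjBasics

/-!
# Cohomology of complete intersections in projective space
-/

set_option autoImplicit false
set_option linter.style.haveILetI false
set_option backward.isDefEq.respectTransparency.types false

universe u

open CategoryTheory CategoryTheory.Limits AlgebraicGeometry TopologicalSpace
open Groth.PicAux

namespace Groth.CohTwo.CI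

variable {k : Type u} [Field k] {n : ℕ}

theorem ciIdeal_eq_sup {r : ℕ} {a : Fin (r + 1) → ℕ}
    (G : ∀ j : Fin (r + 1), LefPen.Form n k (a j)) :
    LefPen.ciIdeal G = LefPen.hypIdeal (G (Fin.last r)) ⊔ prevIdeal G := by
  refine le_antisymm (iSup_le fun j => ?_) (sup_le ?_ (iSup_le fun j => ?_))
  · induction j using Fin.lastCases with
    | last => exact le_sup_left
    | cast j =>
      exact (le_iSup (fun j : Fin r => LefPen.hypIdeal (G j.castSucc)) j).trans le_sup_right
  · exact le_iSup (fun j => LefPen.hypIdeal (G j)) (Fin.last r)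
  · exact le_iSup (fun j => LefPen.hypIdeal (G j)) j.castSucc

theorem comap_subschemeι_self {X : Scheme.{u}} (I : X.IdealSheafData) :
    I.comap I.subschemeι = ⊥ := by
  refine le_bot_iff.1 (Scheme.IdealSheafData.le_map_iff_comap_le.1 ?_)
  rw [Scheme.IdealSheafData.map_bot, Scheme.IdealSheafData.ker_subschemeι]

/-- The intersection as an iterated closed subscheme. -/
theorem exists_step_iso {r : ℕ} {a : Fin (r + 1) → ℕ}
    (G : ∀ j : Fin (r + 1), LefPen.Form n k (a j)) :
    ∃ e : (LefPen.ciIdeal G).subscheme ⟶ (stepIdeal G).subscheme, IsIso e ∧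
      e ≫ (stepIdeal G).subschemeι ≫ (prevIdeal G).subschemeι =
        (LefPen.ciIdeal G).subschemeι := by
  let I := LefPen.ciIdeal G
  let ι := (prevIdeal G).subschemeι
  let q := (stepIdeal G).subschemeι
  have h1 : I ≤ (q ≫ ι).ker := by
    refine Scheme.IdealSheafData.le_map_iff_comap_le.2 ?_
    rw [show I = _ from ciIdeal_eq_sup G, Scheme.IdealSheafData.comap_sup, comap_subschemeι_self]
    exact sup_le le_rfl bot_le
  let g : I.subscheme ⟶ (prevIdeal G).subscheme := IsClosedImmersion.lift ι I.subschemeι (by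
    rw [Scheme.IdealSheafData.ker_subschemeι, Scheme.IdealSheafData.ker_subschemeι,
      show I = _ from ciIdeal_eq_sup G]
    exact le_sup_right)
  have hg : g ≫ ι = I.subschemeι := IsClosedImmersion.lift_fac ..
  have hker : (stepIdeal G) ≤ g.ker := by
    rw [← Scheme.IdealSheafData.map_bot, Scheme.IdealSheafData.le_map_iff_comap_le,
      ← Scheme.IdealSheafData.comap_comp, hg]
    refine le_trans (Scheme.IdealSheafData.comap_mono _ ?_) (comap_subschemeι_self I).le
    rw [show I = _ from ciIdeal_eq_sup G]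
    exact le_sup_left
  let h : I.subscheme ⟶ (stepIdeal G).subscheme := IsClosedImmersion.lift q g (by
    rw [Scheme.IdealSheafData.ker_subschemeι]; exact hker)
  have hh : h ≫ q = g := IsClosedImmersion.lift_fac ..
  have hfac : h ≫ q ≫ ι = I.subschemeι := by rw [← Category.assoc, hh, hg]
  refine ⟨h, IsClosedImmersion.isIso_of_ker_eq I.subschemeι (q ≫ ι) h hfac ?_, hfac⟩
  rw [Scheme.IdealSheafData.ker_subschemeι]
  refine le_antisymm h1 ?_
  have h2 := Scheme.Hom.le_ker_comp h (q ≫ ι)
  rw [hfac, Scheme.IdealSheafData.ker_subschemeι] at h2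
  exact h2

/-- Restriction to the iterated step. -/
theorem step {r : ℕ} {a : Fin (r + 1) → ℕ} (ha : ∀ j, 1 ≤ a j) (hr : r + 1 ≤ n)
    {G : ∀ j : Fin (r + 1), LefPen.Form n k (a j)} (hG : Good G)
    (hV : ∀ (i : ℤ) (p : ℕ), 0 < p → p < n - r → Subsingleton (Coh.HH (prevIdeal G).subscheme
      ((Scheme.Modules.pullback (prevIdeal G).subschemeι).obj (Twist.twistProjSpace n k i)) p))
    (hS : 1 ≤ n - r → ∀ i : ℤ, SurjSec (prevIdeal G).subschemeι (Twist.twistProjSpace n k i)) :
    (∀ (i : ℤ) (p : ℕ), 0 < p → p < n - (r + 1) → Subsingleton (Coh.HH (LefPen.ciIdeal G).subscheme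
      ((Scheme.Modules.pullback (LefPen.ciIdeal G).subschemeι).obj
        (Twist.twistProjSpace n k i)) p)) ∧
    (1 ≤ n - (r + 1) → ∀ i : ℤ,
      SurjSec (LefPen.ciIdeal G).subschemeι (Twist.twistProjSpace n k i)) := by
  let ι := (prevIdeal G).subschemeι
  let q := (stepIdeal G).subschemeι
  letI : (prevIdeal G).subscheme.Over (Spec (CommRingCat.of k)) :=
    ⟨ι ≫ CohB1.ProjSpace.toSpec n k⟩
  obtain ⟨e, he, hfac⟩ := exists_step_iso G
  obtain ⟨eI⟩ := nonempty_idealMod_stepIdeal hG (ne_zero_of_good ha hr hG)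
  let M : ℤ → (prevIdeal G).subscheme.Modules := fun i =>
    (Scheme.Modules.pullback ι).obj (Twist.twistProjSpace n k i)
  have hM : ∀ i, PicF.IsInvertible (M i) := fun i =>
    isInvertible_pullback _ (Groth.PlaneCurve.isInvertible_twistProjSpace i)
  have hI : ∀ i p, 0 < p → p < n - r → Subsingleton (Coh.HH (prevIdeal G).subscheme
      (CohB1.tensorMod (ClSub.idealMod (stepIdeal G)) (M i)) p) := fun i p h0 h1 => by
    obtain ⟨t⟩ := Groth.Ega2Proj.nonempty_tensor_iso (Groth.PlaneCurve.irrelevant_le (r := n)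
      (k := k)) (-(a (Fin.last r) : ℤ)) i
    obtain ⟨t', -⟩ := exists_pullback_tensorMod ι
      (Twist.twistProjSpace n k (-(a (Fin.last r) : ℤ))) (Twist.twistProjSpace n k i)
    exact subsingleton_of_iso
      (PicGrp.tensorModIso eI (Iso.refl _) ≪≫ t'.symm ≪≫ (Scheme.Modules.pullback ι).mapIso t).symm
      (hV _ p h0 h1)
  have hqc : ∀ i, ((Scheme.Modules.pullback q).obj (M i)).IsQuasicoherent := fun i =>
    isQCoh_of_isInvertible (isInvertible_pullback _ (hM i))
  have hqc' : ∀ i, ((Scheme.Modules.pullback (q ≫ ι)).obj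
      (Twist.twistProjSpace n k i)).IsQuasicoherent := fun i =>
    isQCoh_of_isInvertible (isInvertible_pullback _ (Groth.PlaneCurve.isInvertible_twistProjSpace i))
  refine ⟨fun i p h0 h1 => ?_, fun h1 i => ?_⟩
  · have h := subsingleton_step k (stepIdeal G) (hM i) (hV i p h0 (by omega))
      (hI i (p + 1) (by omega) (by omega))
    have h' := subsingleton_of_iso
      ((Scheme.Modules.pullbackComp q ι).app (Twist.twistProjSpace n k i)) h
    haveI := hqc' i
    haveI := he
    have h'' := subsingleton_pullback_of_isIso e _ h'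
    rw [← hfac]
    exact subsingleton_of_iso
      ((Scheme.Modules.pullbackComp e (q ≫ ι)).app (Twist.twistProjSpace n k i)) h''
  · haveI := hqc' i
    haveI := he
    rw [← hfac]
    exact (surjSec_of_isIso e _).comp
      ((surjSec_subschemeι k (stepIdeal G) (hM i) (hI i 1 one_pos (by omega))).comp
        (hS (by omega) i))

/-- Vanishing and surjectivity for complete intersections. -/
theorem main : ∀ (r : ℕ), r ≤ n → ∀ (a : Fin r → ℕ), (∀ j, 1 ≤ a j) →
    ∀ (G : ∀ j, LefPen.Form n k (a j)), Good G →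
    (∀ (i : ℤ) (p : ℕ), 0 < p → p < n - r → Subsingleton (Coh.HH (LefPen.ciIdeal G).subscheme
      ((Scheme.Modules.pullback (LefPen.ciIdeal G).subschemeι).obj
        (Twist.twistProjSpace n k i)) p)) ∧
    (1 ≤ n - r → ∀ i : ℤ,
      SurjSec (LefPen.ciIdeal G).subschemeι (Twist.twistProjSpace n k i)) := by
  intro r
  induction r with
  | zero =>
    intro _ a _ G _
    haveI : IsIso (LefPen.ciIdeal G).subschemeι := by
      refine IsClosedImmersion.isIso_of_ker_eq (LefPen.ciIdeal G).subschemeι (𝟙 _) _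
        (Category.comp_id _) ?_
      rw [Scheme.IdealSheafData.ker_subschemeι, Scheme.Hom.ker_eq_bot_of_isIso, LefPen.ciIdeal,
        iSup_of_empty]
    haveI : ∀ i : ℤ, (Twist.twistProjSpace n k i).IsQuasicoherent := fun i =>
      isQCoh_of_isInvertible (Groth.PlaneCurve.isInvertible_twistProjSpace i)
    refine ⟨fun i p h0 h1 => subsingleton_pullback_of_isIso _ _
      (Groth.PnCoh.subsingleton_HH_twist i p (by omega) (by omega)), fun _ i => ?_⟩
    exact surjSec_of_isIso _ _
  | succ r ih =>
    intro hr a ha G hG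
    obtain ⟨h1, h2⟩ := ih (by omega) _ (fun j => ha j.castSucc) (fun j => G j.castSucc)
      (good_castSucc ha hr hG)
    exact step ha hr hG h1 h2

end Groth.CohTwo.CI
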