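import Groth.Agent.Variety2.ProjDim
import Groth.Agent.Variety2.DimScheme
import Groth.Agent.PlaneCurve.HypIdeal
import Groth.Agent.Calg6.CMSop
import Groth.Agent.Calg6.ClosedImmStalk
import Groth.Agent.Calg6.ProperStalk
import Groth.Agent.Duality.PnStalk

/-!
# Complete intersections in projective space: dimensions and regular sequences
-/

set_option autoImplicit false
set_option linter.style.haveILetI false
set_option backward.isDefEq.respectTransparency false

universe u

open CategoryTheory AlgebraicGeometry TopologicalSpace RingTheory.Sequence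
open Groth.Variety2

namespace Groth.CohTwo.CI

variable {k : Type u} [Field k] {n : ℕ}

local notation "Pt" => ProjectiveSpectrum (CohB1.polyGrading n k)

theorem chart_isAffine (i : Fin (n + 1)) : IsAffineOpen (LefPen.chart n k i) :=
  Proj.isAffineOpen_basicOpen (CohB1.polyGrading n k) _ (LefPen.X_mem n k i) one_pos

/-- The chart as an affine open. -/
noncomputable abbrev chartAff (i : Fin (n + 1)) : (CohB1.ProjSpace n k).affineOpens :=
  ⟨LefPen.chart n k i, chart_isAffine i⟩

theorem exists_chart (x : CohB1.ProjSpace n k) : ∃ i, x ∈ LefPen.chart n k i :=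
  PSpace.exists_X_notMem (x : Pt)

theorem isUnit_germ_dehom_iff {d : ℕ} (G : LefPen.Form n k d) (i : Fin (n + 1)) (x : Pt)
    (hx : (x : CohB1.ProjSpace n k) ∈ LefPen.chart n k i) :
    IsUnit ((CohB1.ProjSpace n k).presheaf.germ (LefPen.chart n k i) x hx (LefPen.dehom G i)) ↔
      G.1 ∉ x.asHomogeneousIdeal := by
  let 𝒜 := CohB1.polyGrading n k
  let z := HomogeneousLocalization.Away.mk 𝒜 (LefPen.X_mem n k i) d G.1
    (by rw [smul_eq_mul, mul_one]; exact G.2)
  have h1 := ConcreteCategory.congr_hom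
    (AlgebraicGeometry.ProjectiveSpectrum.Proj.awayToSection_germ (𝒜 := 𝒜) (MvPolynomial.X i) x hx) z
  have hxi : MvPolynomial.X i ∈ x.asHomogeneousIdeal.toIdeal.primeCompl := hx
  have hv : (HomogeneousLocalization.mapId 𝒜 (Submonoid.powers_le.mpr hxi) z).val =
      IsLocalization.mk' (Localization.AtPrime x.asHomogeneousIdeal.toIdeal) G.1
        (⟨MvPolynomial.X i ^ d, pow_mem (show MvPolynomial.X i ∈
          x.asHomogeneousIdeal.toIdeal.primeCompl from hx) d⟩ :
          x.asHomogeneousIdeal.toIdeal.primeCompl) := by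
    simp only [z, HomogeneousLocalization.Away.mk]
    rw [HomogeneousLocalization.map_mk,
      HomogeneousLocalization.val_mk, Localization.mk_eq_mk']
    rfl
  have h2 : IsUnit (HomogeneousLocalization.mapId 𝒜 (Submonoid.powers_le.mpr hxi) z) ↔
      G.1 ∉ x.asHomogeneousIdeal := by
    rw [← HomogeneousLocalization.isUnit_iff_isUnit_val, hv, IsLocalization.AtPrime.isUnit_mk'_iff]
    rfl
  refine Iff.trans (Eq.to_iff (congrArg IsUnit h1)) ?_
  exact (MulEquiv.isUnit_map (f := (AlgebraicGeometry.Proj.stalkIso' 𝒜 x).symm)).trans h2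

theorem hypIdeal_ideal_chart {d : ℕ} (G : LefPen.Form n k d) (i : Fin (n + 1)) :
    (LefPen.hypIdeal G).ideal (chartAff i) = Ideal.span {LefPen.dehom G i} := by
  rw [Groth.PlaneCurve.hypIdeal_eq_zeroScheme]
  exact Variety2.Zero.zeroScheme_ideal_eq_span (Groth.PlaneCurve.isInvertible_twistProjSpace _) _
    (chartAff i) (Groth.PlaneCurve.gen_frame i d)
    ((Groth.PlaneCurve.formHom_app_of_le G i le_rfl).trans
      (by rw [Groth.PicAux.resX_self, Groth.PicAux.res_self]))

theorem mem_support_hypIdeal {d : ℕ} (G : LefPen.Form n k d) (x : Pt) :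
    (x : CohB1.ProjSpace n k) ∈ (LefPen.hypIdeal G).support ↔ G.1 ∈ x.asHomogeneousIdeal := by
  obtain ⟨i, hi⟩ := exists_chart (x : CohB1.ProjSpace n k)
  exact not_iff_not.1 ((Divisors.not_mem_support_iff (hypIdeal_ideal_chart G i) hi).trans
    (isUnit_germ_dehom_iff G i x hi))

variable {r : ℕ} {a : Fin r → ℕ}

theorem stalkIdeal_ciIdeal (G : ∀ j, LefPen.Form n k (a j)) (x : CohB1.ProjSpace n k)
    (i : Fin (n + 1)) (hx : x ∈ LefPen.chart n k i) :
    IntMult.stalkIdeal (LefPen.ciIdeal G) x = Ideal.ofList (List.ofFn fun j =>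
      (CohB1.ProjSpace n k).presheaf.germ (LefPen.chart n k i) x hx (LefPen.dehom (G j) i)) := by
  rw [Groth.ParaFormal.stalkIdeal_eq _ (chartAff i) hx, LefPen.ciIdeal,
    Scheme.IdealSheafData.ideal_iSup, iSup_apply, Ideal.map_iSup]
  simp only [hypIdeal_ideal_chart, Ideal.map_span, Set.image_singleton]
  rw [Ideal.ofList, show {r | r ∈ List.ofFn fun j => (CohB1.ProjSpace n k).presheaf.germ
    (LefPen.chart n k i) x hx (LefPen.dehom (G j) i)} = ⋃ j, {(CohB1.ProjSpace n k).presheaf.germ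
    (LefPen.chart n k i) x hx (LefPen.dehom (G j) i)} by ext; simp [eq_comm],
    Ideal.span_iUnion]

theorem mem_support_ciIdeal (G : ∀ j, LefPen.Form n k (a j)) (x : Pt) :
    (x : CohB1.ProjSpace n k) ∈ (LefPen.ciIdeal G).support ↔
      ∀ j, (G j).1 ∈ x.asHomogeneousIdeal := by
  rw [LefPen.ciIdeal, Scheme.IdealSheafData.support_iSup]
  refine (TopologicalSpace.Closeds.mem_iInf (α := ↥(CohB1.ProjSpace n k))).trans ?_
  exact forall_congr' fun j => mem_support_hypIdeal (G j) x

/-- The forms cut out something of dimension at most `n - r`. -/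
def Good (G : ∀ j, LefPen.Form n k (a j)) : Prop :=
  ∀ x : Pt, (∀ j, (G j).1 ∈ x.asHomogeneousIdeal) → PSpace.ht x + r ≤ n

theorem height_subscheme (I : (CohB1.ProjSpace n k).IdealSheafData) (z : I.subscheme) :
    Order.height z = PSpace.ht (I.subschemeι z : Pt) :=
  (Dim.height_eq_of_isPreimmersion (I.subschemeι ≫ CohB1.ProjSpace.toSpec n k)
    (CohB1.ProjSpace.toSpec n k) I.subschemeι rfl z).symm

theorem good_of_dim (hr : r ≤ n) (G : ∀ j, LefPen.Form n k (a j))
    (hdim : topologicalKrullDim ↥(LefPen.ciIdeal G).subscheme ≤ ((n - r : ℕ) : WithBot ℕ∞)) :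
    Good G := by
  intro x hx
  have hx' := (mem_support_ciIdeal G x).2 hx
  obtain ⟨z, hz⟩ := Groth.Calg6.ProperStalk.exists_point _ hx'
  have h1 : ((Order.height z : ℕ∞) : WithBot ℕ∞) ≤ ((n - r : ℕ) : WithBot ℕ∞) :=
    (le_iSup (fun z => ((Order.height z : ℕ∞) : WithBot ℕ∞)) z).trans
      ((Dim.dim_eq_iSup_height _).symm.trans_le hdim)
  have h2 : Order.height z ≤ ((n - r : ℕ) : ℕ∞) := WithBot.coe_le_coe.1 h1
  rw [height_subscheme, show ((LefPen.ciIdeal G).subschemeι z : Pt) = x from hz] at h2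
  calc PSpace.ht x + r ≤ ((n - r : ℕ) : ℕ∞) + r := add_le_add h2 le_rfl
    _ = n := by rw [← Nat.cast_add, Nat.sub_add_cancel hr]

open scoped Classical in
theorem good_castSucc {a : Fin (r + 1) → ℕ} (ha : ∀ j, 1 ≤ a j) (hr : r + 1 ≤ n)
    {G : ∀ j : Fin (r + 1), LefPen.Form n k (a j)} (hG : Good G) :
    Good (fun j : Fin r => G j.castSucc) := by
  intro x hx
  by_contra hlt
  obtain ⟨m, hm⟩ := PSpace.exists_ht_eq x
  rw [hm, not_le, ← Nat.cast_add, Nat.cast_lt] at hlt
  let g := G (Fin.last r)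
  have hgd : g.1.IsHomogeneous (a (Fin.last r)) := g.2
  obtain ⟨y, hy1, hy2⟩ := PSpace.exists_mem_of_pos (n := n) hgd (ha _) (ξ := x) (by
    rw [hm, ne_eq, Nat.cast_eq_zero]; omega)
  obtain ⟨w, ⟨hw1, hw2⟩, hw3, hw4⟩ := PSpace.exists_maximal
    (S := {w : Pt | x ⤳ w ∧ g.1 ∈ w.asHomogeneousIdeal}) (x := y) ⟨hy1, hy2⟩
  have h1 := PSpace.ht_le_add_card x {g.1} (fun f hf => ⟨_, ha _, (Finset.mem_singleton.1 hf) ▸ hgd⟩)
    hw1 (by simpa using hw2) fun z a b c => hw4 z ⟨a, c _ (Finset.mem_singleton_self _)⟩ b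
  have h2 := hG w (Fin.lastCases hw2 fun j =>
    (PSpace.specializes_iff x w).1 hw1 (hx j))
  obtain ⟨m', hm'⟩ := PSpace.exists_ht_eq w
  rw [Finset.card_singleton, hm, hm'] at h1
  rw [hm'] at h2
  have h1 : m ≤ m' + 1 := by exact_mod_cast h1
  have h2 : m' + (r + 1) ≤ n := by exact_mod_cast h2
  omega

open scoped Classical in
/-- Maximal points of the intersection have height at least `n - r`. -/
theorem le_ht_of_maximal (ha : ∀ j, 1 ≤ a j) (G : ∀ j, LefPen.Form n k (a j)) {z : Pt}
    (hz : ∀ j, (G j).1 ∈ z.asHomogeneousIdeal)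
    (hmax : ∀ w : Pt, w ⤳ z → (∀ j, (G j).1 ∈ w.asHomogeneousIdeal) → w = z) :
    (n : ℕ∞) ≤ PSpace.ht z + r := by
  have h := PSpace.ht_le_add_card (PSpace.eta n k) (Finset.univ.image fun j => (G j).1)
    (fun f hf => by
      obtain ⟨j, -, rfl⟩ := Finset.mem_image.1 hf
      exact ⟨a j, ha j, (G j).2⟩)
    (PSpace.eta_specializes z) (fun f hf => by
      obtain ⟨j, -, rfl⟩ := Finset.mem_image.1 hf
      exact hz j)
    fun w _ h2 h3 => hmax w h2 fun j => h3 _ (Finset.mem_image_of_mem _ (Finset.mem_univ j))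
  rw [PSpace.ht_eta] at h
  refine h.trans (add_le_add le_rfl (Nat.cast_le.2 ?_))
  exact Finset.card_image_le.trans (by simp)

open scoped Classical in
theorem exists_mem_all (ha : ∀ j, 1 ≤ a j) (hr : r ≤ n) (G : ∀ j, LefPen.Form n k (a j)) :
    ∃ x : Pt, ∀ j, (G j).1 ∈ x.asHomogeneousIdeal := by
  obtain ⟨x, -, hx⟩ := PSpace.exists_mem_of_card_le (PSpace.eta n k)
    (Finset.univ.image fun j => (G j).1)
    (fun f hf => by
      obtain ⟨j, -, rfl⟩ := Finset.mem_image.1 hf
      exact ⟨a j, ha j, (G j).2⟩)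
    (by rw [PSpace.ht_eta, Nat.cast_le]; exact Finset.card_image_le.trans (by simpa using hr))
  exact ⟨x, fun j => hx _ (Finset.mem_image_of_mem _ (Finset.mem_univ j))⟩

theorem ne_zero_of_good {a : Fin (r + 1) → ℕ} (ha : ∀ j, 1 ≤ a j) (hr : r + 1 ≤ n)
    {G : ∀ j : Fin (r + 1), LefPen.Form n k (a j)} (hG : Good G) : G (Fin.last r) ≠ 0 := by
  intro h0
  obtain ⟨x, hx⟩ := exists_mem_all (fun j : Fin r => ha j.castSucc) (by omega)
    (fun j : Fin r => G j.castSucc)
  obtain ⟨z, hz, -, hmax⟩ := PSpace.exists_maximal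
    (S := {w : Pt | ∀ j : Fin r, (G j.castSucc).1 ∈ w.asHomogeneousIdeal}) (x := x) hx
  have h1 := le_ht_of_maximal (fun j : Fin r => ha j.castSucc) (fun j : Fin r => G j.castSucc) hz
    fun w hw h => hmax w h hw
  have h2 := hG z (Fin.lastCases (by rw [h0]; exact Ideal.zero_mem _) hz)
  obtain ⟨m, hm⟩ := PSpace.exists_ht_eq z
  rw [hm] at h1 h2
  have h1 : n ≤ m + r := by exact_mod_cast h1
  have h2 : m + (r + 1) ≤ n := by exact_mod_cast h2
  omega

/-- At a point of the intersection the local equations form a regular sequence. -/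
theorem isWeaklyRegular_germs (G : ∀ j, LefPen.Form n k (a j)) (hG : Good G)
    (x : Pt) (hx : ∀ j, (G j).1 ∈ x.asHomogeneousIdeal) (i : Fin (n + 1))
    (hxi : (x : CohB1.ProjSpace n k) ∈ LefPen.chart n k i) :
    IsWeaklyRegular ((CohB1.ProjSpace n k).presheaf.stalk x) (List.ofFn fun j =>
      (CohB1.ProjSpace n k).presheaf.germ (LefPen.chart n k i) x hxi (LefPen.dehom (G j) i)) := by
  let O := (CohB1.ProjSpace n k).presheaf.stalk x
  haveI : IsRegularLocalRing O := Groth.Duality.Pn.isRegularLocalRing_stalk n k x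
  haveI := Groth.Duality.Pn.irreducibleSpace_projSpace n k
  refine Groth.Calg6.isWeaklyRegular_of_supportDim_add_length_le _ O
    (Groth.Calg6.isCohenMacaulayModule_of_isRegularLocalRing O) (fun y hy => ?_) ?_
  · obtain ⟨j, rfl⟩ := List.mem_ofFn.1 hy
    rw [IsLocalRing.mem_maximalIdeal, mem_nonunits_iff, isUnit_germ_dehom_iff, not_not]
    exact hx j
  rw [List.length_ofFn, ← stalkIdeal_ciIdeal, smul_eq_mul, Ideal.mul_top,
    Module.supportDim_quotient_eq_ringKrullDim, Module.supportDim_self_eq_ringKrullDim]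
  obtain ⟨z, hz⟩ := Groth.Calg6.ProperStalk.exists_point _ ((mem_support_ciIdeal G x).2 hx)
  obtain ⟨e⟩ := Groth.Calg6.ProperStalk.exists_stalk_equiv (LefPen.ciIdeal G) z
  have hsub : ringKrullDim ((CohB1.ProjSpace n k).presheaf.stalk x ⧸
      IntMult.stalkIdeal (LefPen.ciIdeal G) x) = (Order.coheight z : ℕ∞) := by
    rw [← ringKrullDim_stalk_eq_coheight]
    have e' := ringKrullDim_eq_of_ringEquiv e
    rw [hz] at e'
    exact e'
  obtain ⟨m, hm⟩ := PSpace.exists_ht_eq x
  have hm' : @Order.height ↥(CohB1.ProjSpace n k) _ x = m := by simpa [PSpace.ht] using hm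
  have hP : ringKrullDim O + (m : WithBot ℕ∞) = (n : WithBot ℕ∞) := by
    have := Dim.ringKrullDim_stalk_add_height (CohB1.ProjSpace.toSpec n k)
      (x : CohB1.ProjSpace n k)
    rwa [hm', PSpace.dim_projSpace] at this
  have hV : ((Order.coheight z : ℕ∞) : WithBot ℕ∞) + (m : WithBot ℕ∞) + r ≤ (n : WithBot ℕ∞) := by
    have hzm : Order.height z = m := by
      rw [height_subscheme, show ((LefPen.ciIdeal G).subschemeι z : Pt) = x from hz]; exact hm
    have hc : Order.coheight z + m + r ≤ (n : ℕ∞) := by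
      rw [Order.coheight_eq]
      haveI : Nonempty {p : LTSeries (LefPen.ciIdeal G).subscheme // z ≤ p.head} :=
        ⟨⟨RelSeries.singleton _ z, le_rfl⟩⟩
      rw [iSup_subtype', ENat.iSup_add, ENat.iSup_add]
      refine iSup_le fun ⟨p, hp⟩ => ?_
      have h1 : (m : ℕ∞) + p.length ≤ Order.height p.last := by
        rw [← hzm]
        exact (add_le_add (Order.height_mono hp) le_rfl).trans
          (Dim.height_add_length_le ((LefPen.ciIdeal G).subschemeι ≫ CohB1.ProjSpace.toSpec n k) p)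
      rw [height_subscheme] at h1
      have h2 := hG ((LefPen.ciIdeal G).subschemeι p.last : Pt) ((mem_support_ciIdeal G _).1 (by
        rw [← SetLike.mem_coe, ← Scheme.IdealSheafData.range_subschemeι]
        exact ⟨_, rfl⟩))
      refine le_trans ?_ ((add_le_add h1 le_rfl).trans h2)
      rw [add_comm (p.length : ℕ∞)]
    have := WithBot.coe_le_coe.2 hc
    simpa only [WithBot.coe_add, WithBot.coe_natCast] using this
  change ringKrullDim ((CohB1.ProjSpace n k).presheaf.stalk x ⧸
      IntMult.stalkIdeal (LefPen.ciIdeal G) x) + (r : WithBot ℕ∞) ≤ ringKrullDim O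
  rw [hsub]
  generalize ringKrullDim O = D at hP
  generalize Order.coheight z = c at hV
  cases D with
  | bot => simp at hP
  | coe D =>
    have hP : D + m = (n : ℕ∞) := by exact_mod_cast hP
    have hV : c + m + r ≤ (n : ℕ∞) := by exact_mod_cast hV
    have hV' : c + r + m ≤ D + m := by rw [hP, add_right_comm]; exact hV
    have := (ENat.add_le_add_iff_right (ENat.coe_ne_top m)).1 hV'
    exact_mod_cast this

end Groth.CohTwo.CI
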